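import Groth.Agent.WeilGlue.Affine
import Groth.Agent.OverRep.Basic
import Groth.Agent.MorLib.UnivHomeo
import Mathlib.AlgebraicGeometry.Morphisms.Finite
import Mathlib.AlgebraicGeometry.Morphisms.Flat
import Mathlib.RingTheory.Finiteness.ModuleFinitePresentation
import Mathlib.RingTheory.Flat.EquationalCriterion

/-! Weil restriction of an arbitrary scheme along a finite locally free universal homeomorphism. -/

set_option autoImplicit false
set_option linter.style.haveILetI false
set_option backward.isDefEq.respectTransparency false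
set_option backward.isDefEq.respectTransparency.types false

universe u

open CategoryTheory Limits AlgebraicGeometry Opposite

noncomputable section

namespace Groth.Agent.WeilGlue

open WeilAlg

variable {S S' : Scheme.{u}} (f : S' ⟶ S) [IsFinite f] [Flat f] [LocallyOfFinitePresentation f] [Surjective f]

/-- The Weil restriction of an affine open lying over an affine open of the base. -/
theorem exists_chart (X' : Over S') (W : S.Opens) (hW : IsAffineOpen W) (U : X'.left.Opens) (hU : IsAffineOpen U)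
    (hle : U ≤ X'.hom ⁻¹ᵁ (f ⁻¹ᵁ W)) :
    ∃ (Z : Over S) (q : Red.bc f Z ⟶ Over.mk (U.ι ≫ X'.hom)), WeilRes.IsWeilRes f (Over.mk (U.ι ≫ X'.hom)) Z q := by
  have hW' : IsAffineOpen (f ⁻¹ᵁ W) := hW.preimage f
  let B : Type u := Γ(S, W)
  let B' : Type u := Γ(S', f ⁻¹ᵁ W)
  let A' : Type u := Γ(X'.left, U)
  letI : Algebra B B' := (f.app W).hom.toAlgebra
  letI : Algebra B' A' := (X'.hom.appLE _ U hle).hom.toAlgebra
  haveI : Module.Finite B B' := f.finite_app _ hW
  haveI : Module.Flat B B' := by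
    have := f.flat_appLE hW hW' le_rfl
    rwa [Scheme.Hom.appLE_eq_app] at this
  haveI : Algebra.FinitePresentation B B' := by
    have := LocallyOfFinitePresentation.finitePresentation_appLE f hW hW' le_rfl
    rwa [Scheme.Hom.appLE_eq_app] at this
  haveI : Module.FinitePresentation B B' := Module.FinitePresentation.of_finite_of_finitePresentation B B'
  haveI : Module.Projective B B' := Module.Flat.projective_of_finitePresentation
  obtain ⟨R, q, hq⟩ := exists_affine B B' A'
  have sq : IsPullback (Spec.map (CommRingCat.ofHom (algebraMap B B'))) hW'.fromSpec hW.fromSpec f := by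
    refine IsOpenImmersion.isPullback _ _ _ _ ?_ ?_
    · show hW'.fromSpec ≫ f = Spec.map (f.app W) ≫ hW.fromSpec
      rw [← IsAffineOpen.SpecMap_appLE_fromSpec f hW hW' le_rfl, Scheme.Hom.appLE_eq_app]
    · apply TopologicalSpace.Opens.ext
      simp only [Scheme.Hom.coe_opensRange, Scheme.Hom.coe_preimage]
      erw [IsAffineOpen.range_fromSpec, IsAffineOpen.range_fromSpec]
      rfl
  obtain ⟨q₁, hq₁⟩ := exists_of_open sq hq
  let e : (Over.map hW'.fromSpec).obj (specO B' A') ≅ Over.mk (U.ι ≫ X'.hom) :=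
    Over.isoMk hU.isoSpec.symm (by
      show hU.isoSpec.inv ≫ U.ι ≫ X'.hom = Spec.map (X'.hom.appLE _ U hle) ≫ hW'.fromSpec
      rw [IsAffineOpen.SpecMap_appLE_fromSpec _ hW' hU, IsAffineOpen.fromSpec, Category.assoc])
  refine ⟨_, q₁ ≫ e.hom, fun T => ?_⟩
  have h1 : WeilRes.restr f (q₁ ≫ e.hom) T = (fun g => g ≫ e.hom) ∘ WeilRes.restr f q₁ T := by
    funext g; simp [WeilRes.restr_apply]
  rw [h1]
  exact (e.homToEquiv.bijective).comp (hq₁ T)

/-- The Weil restriction exists along a finite locally free universal homeomorphism. -/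
theorem exists_isWeilRes (hf : FlatMor.IsUnivHomeo f) (X' : Over S') :
    ∃ (R : Over S) (q : Red.bc f R ⟶ X'), WeilRes.IsWeilRes f X' R q := by
  let ι := {p : S.affineOpens × X'.left.affineOpens // p.2.1 ≤ X'.hom ⁻¹ᵁ (f ⁻¹ᵁ p.1.1)}
  choose Z qZ hZ using fun i : ι => exists_chart f X' i.1.1.1 i.1.1.2 i.1.2.1 i.1.2.2 i.2
  let inc : ∀ i : ι, Over.mk (i.1.2.1.ι ≫ X'.hom) ⟶ X' := fun i => Over.homMk i.1.2.1.ι rfl
  have hhom : ∀ T : Over S, IsHomeomorph (pullback.fst T.hom f).base := fun T =>
    hf _ _ _ (IsPullback.of_hasPullback T.hom f)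
  have hP : ∀ {T T' : Over S} (t : T' ⟶ T) (v : ↥(Red.bc f T').left),
      pullback.fst T.hom f (((Over.pullback f).map t).left v) = t.left (pullback.fst T'.hom f v) := fun {T T'} t v =>
    (Scheme.Hom.comp_apply _ _ _).symm.trans
      ((congrArg (fun m : (Red.bc f T').left ⟶ T.left => m v) (pullback.lift_fst _ _ _)).trans
        (Scheme.Hom.comp_apply _ _ _))
  let O : ∀ (i : ι) (T : Over S), (Red.bc f T ⟶ X') → T.left.Opens := fun i T x =>
    ⟨(pullback.fst T.hom f).base '' (x.left.base ⁻¹' (i.1.2.1 : Set X'.left)),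
      (hhom T).isOpenMap _ (i.1.2.1.2.preimage x.left.continuous)⟩
  refine Exists.elim (OverRep.exists_representableBy (F := WeilRes.functor f X') (isSheaf_functor f X') Z
    (fun i => qZ i ≫ inc i) O ?_ ?_ ?_) fun R hR =>
    ⟨R, hR.some.homEquiv (𝟙 R), WeilRes.IsWeilRes.of_representableBy hR.some⟩
  · intro i T x T' t
    constructor
    · intro h
      have hrange : Set.range ((Over.pullback f).map t ≫ x).left.base ⊆ Set.range i.1.2.1.ι.base := by
        rw [Scheme.Opens.range_ι]
        rintro _ ⟨v, rfl⟩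
        obtain ⟨w, hw, hwv⟩ := h ⟨pullback.fst T'.hom f v, rfl⟩
        have hwe : w = ((Over.pullback f).map t).left v := (hhom T).injective (hwv.trans (hP t v).symm)
        rw [Over.comp_left, Scheme.Hom.comp_apply, ← hwe]
        exact hw
      let h₀ : Red.bc f T' ⟶ Over.mk (i.1.2.1.ι ≫ X'.hom) :=
        Over.homMk (IsOpenImmersion.lift i.1.2.1.ι _ hrange) (by
          show _ ≫ i.1.2.1.ι ≫ X'.hom = _
          rw [← Category.assoc, IsOpenImmersion.lift_fac]
          exact Over.w _)
      obtain ⟨g, hg⟩ := (hZ i T').2 h₀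
      refine ⟨g, ?_⟩
      show (Over.pullback f).map g ≫ qZ i ≫ inc i = (Over.pullback f).map t ≫ x
      rw [← Category.assoc, show (Over.pullback f).map g ≫ qZ i = h₀ from hg]
      exact Over.OverMorphism.ext (IsOpenImmersion.lift_fac _ _ _)
    · rintro ⟨g, hg⟩ _ ⟨a, rfl⟩
      obtain ⟨v, rfl⟩ := (hhom T').surjective a
      refine ⟨((Over.pullback f).map t).left v, ?_, hP t v⟩
      have h2 : ((Over.pullback f).map g ≫ qZ i ≫ inc i).left v = ((Over.pullback f).map t ≫ x).left v :=
        congrArg (fun m : Red.bc f T' ⟶ X' => m.left v) hg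
      show x.left (((Over.pullback f).map t).left v) ∈ (i.1.2.1 : Set X'.left)
      rw [Over.comp_left, Over.comp_left, Over.comp_left, Scheme.Hom.comp_apply, Scheme.Hom.comp_apply,
        Scheme.Hom.comp_apply] at h2
      have hm : ∀ z : ↥(Over.mk (i.1.2.1.ι ≫ X'.hom)).left, (inc i).left z ∈ (i.1.2.1 : Set X'.left) := fun z => by
        have : i.1.2.1.ι.base z ∈ Set.range i.1.2.1.ι.base := ⟨z, rfl⟩
        rwa [Scheme.Opens.range_ι] at this
      exact (congrArg (fun z => z ∈ (i.1.2.1 : Set X'.left)) h2).mp (hm _)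
  · intro i T g g' h
    have : Mono (inc i) := by
      haveI : Mono (inc i).left := inferInstanceAs (Mono i.1.2.1.ι)
      exact Over.mono_of_mono_left _
    refine (hZ i T).1 ?_
    rw [← cancel_mono (inc i)]
    have h' : (Over.pullback f).map g ≫ qZ i ≫ inc i = (Over.pullback f).map g' ≫ qZ i ≫ inc i := h
    simpa only [WeilRes.restr_apply, Category.assoc] using h'
  · intro T x p
    obtain ⟨v, hv⟩ := (hhom T).surjective p
    let y := x.left v
    obtain ⟨W, hW, hyW, -⟩ := exists_isAffineOpen_mem_and_subset (U := (⊤ : S.Opens)) (x := f (X'.hom y)) trivial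
    obtain ⟨U, hU, hyU, hUle⟩ := exists_isAffineOpen_mem_and_subset (U := X'.hom ⁻¹ᵁ (f ⁻¹ᵁ W)) (x := y) hyW
    exact ⟨⟨(⟨W, hW⟩, ⟨U, hU⟩), hUle⟩, v, hyU, hv⟩

end Groth.Agent.WeilGlue
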