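import Groth.Agent.WeilAlg.Construct
import Mathlib.RingTheory.TensorProduct.Basic
import Mathlib.LinearAlgebra.TensorProduct.RightExactness
import Mathlib.Algebra.Module.Projective
import Mathlib.RingTheory.Finiteness.Cardinality
import Mathlib.RingTheory.TensorProduct.MvPolynomial

/-! The Weil restriction of an arbitrary algebra along a finite projective ring extension. -/

universe u

open scoped TensorProduct
open Algebra.TensorProduct (map)

noncomputable section

namespace Groth.Agent.WeilAlg

variable (B B' : Type u) [CommRing B] [CommRing B'] [Algebra B B']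

/-- The Weil restriction of an arbitrary algebra exists. -/
theorem exists_rep_any [Module.Finite B B'] [Module.Projective B B'] (A' : Type u) [CommRing A'] [Algebra B' A'] :
    ∃ (W : Type u) (_ : CommRing W) (_ : Algebra B W) (ξ : A' →ₐ[B'] B' ⊗[B] W),
      ∀ (C : Type u) [CommRing C] [Algebra B C],
        Function.Bijective (fun w : W →ₐ[B] C => (map (AlgHom.id B' B') w).comp ξ) := by
  classical
  let π : MvPolynomial A' B' →ₐ[B'] A' := MvPolynomial.aeval id
  have hπ : Function.Surjective π := fun a => ⟨MvPolynomial.X a, MvPolynomial.aeval_X _ _⟩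
  let gens : Set (MvPolynomial A' B') := {p | π p = 0}
  have hgens : Ideal.span gens = RingHom.ker π.toRingHom := le_antisymm (Ideal.span_le.2 fun p hp => hp) fun p hp => Ideal.subset_span hp
  obtain ⟨n, s, hs⟩ := Module.Finite.exists_fin' B B'
  obtain ⟨t, ht⟩ := Module.projective_lifting_property s LinearMap.id hs
  let b : Fin n → B' := fun j => s (Pi.single j 1)
  let τ : Fin n → B' →ₗ[B] B := fun j => (LinearMap.proj j).comp t
  have hb : ∀ x, ∑ j, τ j x • b j = x := fun x => by
    have h : s (t x) = x := LinearMap.congr_fun ht x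
    conv_rhs => rw [← h, pi_eq_sum_univ' (t x)]
    simp only [map_sum, map_smul]
    rfl
  let P0 := MvPolynomial (A' × Fin n) B
  let ξ0 : A' → B' ⊗[B] P0 := fun i => ∑ j, b j ⊗ₜ[B] MvPolynomial.X (i, j)
  let ev : MvPolynomial A' B' →ₐ[B'] B' ⊗[B] P0 := MvPolynomial.aeval ξ0
  let rels : Set P0 :=
    (Set.range fun ij : A' × Fin n => coord (τ ij.2) P0 (ξ0 ij.1) - MvPolynomial.X ij) ∪
      ((fun fj : MvPolynomial A' B' × Fin n => coord (τ fj.2) P0 (ev fj.1)) '' (gens ×ˢ (Set.univ : Set (Fin n))))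
  let Rel : Ideal P0 := Ideal.span rels
  let qW : P0 →ₐ[B] P0 ⧸ Rel := Ideal.Quotient.mkₐ B Rel
  have hkill : ∀ r ∈ rels, qW r = 0 := fun r hr => Ideal.Quotient.eq_zero_iff_mem.mpr (Ideal.subset_span hr)
  have hle : RingHom.ker π.toRingHom ≤ RingHom.ker ((map (AlgHom.id B' B') qW).comp ev).toRingHom := by
    rw [← hgens, Ideal.span_le]
    intro f hf
    show map (AlgHom.id B' B') qW (ev f) = 0
    rw [← sum_coord b τ hb _ (map (AlgHom.id B' B') qW (ev f))]
    refine Finset.sum_eq_zero fun j _ => ?_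
    rw [coord_map, hkill _ (Set.mem_union_right _
      ⟨(f, j), Set.mk_mem_prod hf (Set.mem_univ _), rfl⟩), TensorProduct.tmul_zero]
  let ξ : A' →ₐ[B'] B' ⊗[B] (P0 ⧸ Rel) := (Ideal.Quotient.liftₐ (RingHom.ker π.toRingHom) ((map (AlgHom.id B' B') qW).comp ev) fun a ha => hle ha).comp
    (Ideal.quotientKerAlgEquivOfSurjective hπ).symm.toAlgHom
  have hξ : ∀ p, ξ (π p) = map (AlgHom.id B' B') qW (ev p) :=
    fun p => by
      show (Ideal.Quotient.liftₐ (RingHom.ker π.toRingHom) ((map (AlgHom.id B' B') qW).comp ev) fun a ha => hle ha) ((Ideal.quotientKerAlgEquivOfSurjective hπ).symm (π p)) = _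
      rw [Ideal.quotientKerAlgEquivOfSurjective_symm_apply]
      rfl
  refine ⟨P0 ⧸ Rel, inferInstance, inferInstance, ξ,
    fun C _ _ => ⟨fun w₁ w₂ h => ?_, fun ψ => ?_⟩⟩
  · refine Ideal.Quotient.algHom_ext B (MvPolynomial.algHom_ext fun ij => ?_)
    have key : ∀ w : P0 ⧸ Rel →ₐ[B] C,
        w (qW (MvPolynomial.X ij)) = coord (τ ij.2) C (map (AlgHom.id B' B') w (ξ (π (MvPolynomial.X ij.1)))) := by
      intro w
      rw [coord_map, hξ, coord_map]
      have h0 := hkill (coord (τ ij.2) P0 (ξ0 ij.1) - MvPolynomial.X ij)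
        (Set.mem_union_left _ ⟨ij, rfl⟩)
      rw [map_sub, sub_eq_zero] at h0
      rw [← h0]
      simp [ev]
    show w₁ (qW _) = w₂ (qW _)
    rw [key, key]
    exact congrArg (coord (τ ij.2) C) (AlgHom.congr_fun h _)
  · let φ : P0 →ₐ[B] C := MvPolynomial.aeval fun ij => coord (τ ij.2) C (ψ (π (MvPolynomial.X ij.1)))
    have hφ : ∀ p, map (AlgHom.id B' B') φ (ev p) = ψ (π p) := by
      intro p
      have : (map (AlgHom.id B' B') φ).comp ev = ψ.comp π := MvPolynomial.algHom_ext fun i => by
        show map (AlgHom.id B' B') φ (ev (MvPolynomial.X i)) = ψ (π (MvPolynomial.X i))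
        conv_rhs => rw [← sum_coord b τ hb _ (ψ (π (MvPolynomial.X i)))]
        simp only [ev, ξ0, φ, MvPolynomial.aeval_X, map_sum, Algebra.TensorProduct.map_tmul, AlgHom.id_apply]
        exact Finset.sum_congr rfl fun j _ => by erw [MvPolynomial.aeval_X]
      exact AlgHom.congr_fun this p
    have hRel : ∀ a ∈ Rel, φ a = 0 := by
      suffices Rel ≤ RingHom.ker φ.toRingHom from fun a ha => this ha
      refine Ideal.span_le.mpr fun r hr => ?_
      show φ r = 0
      rcases hr with hr | hr
      · obtain ⟨ij, rfl⟩ := hr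
        have h := hφ (MvPolynomial.X ij.1)
        rw [show ev (MvPolynomial.X ij.1) = ξ0 ij.1 by simp [ev]] at h
        rw [map_sub, ← coord_map, h, sub_eq_zero]
        simp [φ, π]
        erw [MvPolynomial.aeval_X]
      · obtain ⟨⟨f, j⟩, hfj, rfl⟩ := hr
        rw [← coord_map, hφ]
        have hf : π f = 0 := by
          have : f ∈ RingHom.ker π.toRingHom := hgens ▸ Submodule.subset_span hfj.1
          exact this
        rw [hf, map_zero, map_zero]
    refine ⟨Ideal.Quotient.liftₐ Rel φ hRel, AlgHom.ext fun a => ?_⟩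
    obtain ⟨p, rfl⟩ := hπ a
    show map (AlgHom.id B' B') _ (ξ (π p)) = _
    rw [hξ, ← hφ]
    have hc : (map (AlgHom.id B' B') (Ideal.Quotient.liftₐ Rel φ hRel)).comp (map (AlgHom.id B' B') qW) =
        map (AlgHom.id B' B') φ := Algebra.TensorProduct.ext' fun x y => by
      simp only [AlgHom.comp_apply, Algebra.TensorProduct.map_tmul, AlgHom.id_apply]
      rfl
    exact AlgHom.congr_fun hc (ev p)

end Groth.Agent.WeilAlg
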