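import Groth.Agent.WeilAlg.Scheme
import Groth.Agent.WeilGlue.RepAny
import Groth.Prelude.Def_WeilRes
import Mathlib.CategoryTheory.Sites.Over
import Mathlib.CategoryTheory.Sites.SubcanonicalOver
import Mathlib.AlgebraicGeometry.Sites.BigZariski

/-! The Weil restriction of an affine scheme over an affine base, and descent of the binder to open bases. -/

set_option autoImplicit false
set_option linter.style.haveILetI false
set_option backward.isDefEq.respectTransparency false
set_option backward.isDefEq.respectTransparency.types false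

universe u

open CategoryTheory Limits AlgebraicGeometry Opposite
open scoped TensorProduct

noncomputable section

namespace Groth.Agent.WeilGlue

open WeilAlg

theorem isSheaf_functor {S S' : Scheme.{u}} (f : S' ⟶ S) (X' : Over S') :
    Presheaf.IsSheaf (Scheme.zariskiTopology.over S) (WeilRes.functor f X') := by
  haveI : ((Over.pullback f).IsContinuous (Scheme.zariskiTopology.over S) (Scheme.zariskiTopology.over S')) := inferInstance
  let Y : Sheaf (Scheme.zariskiTopology.over S') (Type u) :=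
    ⟨yoneda.obj X', (isSheaf_iff_isSheaf_of_type _ _).2 (GrothendieckTopology.Subcanonical.isSheaf_of_isRepresentable _)⟩
  exact (Over.pullback f).op_comp_isSheaf (Scheme.zariskiTopology.over S) (Scheme.zariskiTopology.over S') Y

/-- A pair is a Weil restriction once it is one on affine test schemes. -/
theorem isWeilRes_of_affine {S S' : Scheme.{u}} (f : S' ⟶ S) {X' : Over S'} {R : Over S} (q : Red.bc f R ⟶ X')
    (h : ∀ (C : CommRingCat.{u}) (g : Spec C ⟶ S), Function.Bijective (WeilRes.restr f q (Over.mk g))) :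
    WeilRes.IsWeilRes f X' R q := by
  have inj : ∀ T : Over S, Function.Injective (WeilRes.restr f q T) := by
    intro T a b hab
    refine Over.OverMorphism.ext (Scheme.Cover.hom_ext T.left.affineOpenCover.openCover _ _ fun i => ?_)
    let t : Over.mk (T.left.affineOpenCover.openCover.f i ≫ T.hom) ⟶ T := Over.homMk (T.left.affineOpenCover.openCover.f i) rfl
    have h' : t ≫ a = t ≫ b := (h _ _).1 (by
      show WeilRes.restr f q _ (t ≫ a) = WeilRes.restr f q _ (t ≫ b)
      rw [WeilRes.restr_comp, WeilRes.restr_comp, hab])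
    exact congrArg Over.Hom.left h'
  intro T
  refine ⟨inj T, fun g => ?_⟩
  let 𝒰 := T.left.affineOpenCover.openCover
  let t : ∀ i, Over.mk (𝒰.f i ≫ T.hom) ⟶ T := fun i => Over.homMk (𝒰.f i) rfl
  choose b hb using fun i => (h _ (𝒰.f i ≫ T.hom)).2 ((Over.pullback f).map (t i) ≫ g)
  have hs : Presieve.IsSheafFor (WeilRes.functor f X') (Presieve.ofArrows _ t) := by
    refine (Presieve.isSheafFor_iff_generate _).2 ((isSheaf_iff_isSheaf_of_type _ _).1 (isSheaf_functor f X') _ ?_)
    rw [GrothendieckTopology.mem_over_iff]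
    refine GrothendieckTopology.superset_covering _ ?_ 𝒰.mem_grothendieckTopology
    rintro V c ⟨W, a, _, ⟨i⟩, rfl⟩
    rw [Sieve.overEquiv_iff]
    exact ⟨Over.mk (𝒰.f i ≫ T.hom), Over.homMk a (Category.assoc _ _ _).symm, t i, ⟨i⟩, Over.OverMorphism.ext rfl⟩
  have hcomp : ∀ i j, pullback.fst (𝒰.f i) (𝒰.f j) ≫ (b i).left = pullback.snd _ _ ≫ (b j).left := by
    intro i j
    let O : Over S := Over.mk (pullback.fst (𝒰.f i) (𝒰.f j) ≫ 𝒰.f i ≫ T.hom)
    let p₁ : O ⟶ Over.mk (𝒰.f i ≫ T.hom) := Over.homMk (pullback.fst _ _) rfl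
    let p₂ : O ⟶ Over.mk (𝒰.f j ≫ T.hom) := Over.homMk (pullback.snd _ _) (by
      show pullback.snd _ _ ≫ 𝒰.f j ≫ T.hom = pullback.fst _ _ ≫ 𝒰.f i ≫ T.hom
      rw [pullback.condition_assoc])
    have hp : p₁ ≫ t i = p₂ ≫ t j := Over.OverMorphism.ext pullback.condition
    refine congrArg Over.Hom.left (inj O (a₁ := p₁ ≫ b i) (a₂ := p₂ ≫ b j) ?_)
    rw [WeilRes.restr_comp, WeilRes.restr_comp, hb, hb, ← Functor.map_comp_assoc, hp, Functor.map_comp_assoc]
  let a₀ : T.left ⟶ R.left := Scheme.Cover.glueMorphisms 𝒰 (fun i => (b i).left) hcomp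
  have ha : ∀ i, 𝒰.f i ≫ a₀ = (b i).left := fun i => Scheme.Cover.ι_glueMorphisms _ _ _ i
  let a : T ⟶ R := Over.homMk a₀ (Scheme.Cover.hom_ext 𝒰 _ _ fun i => by rw [reassoc_of% ha i]; exact Over.w (b i))
  refine ⟨a, hs.isSeparatedFor.ext ?_⟩
  rintro V c ⟨i⟩
  show (Over.pullback f).map (t i) ≫ WeilRes.restr f q T a = (Over.pullback f).map (t i) ≫ g
  rw [← WeilRes.restr_comp, show t i ≫ a = b i from Over.OverMorphism.ext (ha i), hb]

/-- The Weil restriction of an affine scheme along a finite projective ring extension. -/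
theorem exists_affine (B B' : Type u) [CommRing B] [CommRing B'] [Algebra B B'] [Module.Finite B B']
    [Module.Projective B B'] (A' : Type u) [CommRing A'] [Algebra B' A'] :
    ∃ (R : Over (Spec (CommRingCat.of B))) (q : (F B B').obj R ⟶ specO B' A'),
      WeilRes.IsWeilRes (Spec.map (CommRingCat.ofHom (algebraMap B B'))) (specO B' A') R q := by
  obtain ⟨W, _, _, ξ, hξ⟩ := exists_rep_any B B' A'
  refine ⟨specO B W, (pi B B' W).hom ≫ specOMap ξ, isWeilRes_of_affine _ _ fun C g => ?_⟩
  obtain ⟨φ, rfl⟩ := Spec.map_surjective g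
  letI : Algebra B C := φ.hom.toAlgebra
  show Function.Bijective (WeilRes.restr _ _ (specO B C))
  have key : ∀ w : W →ₐ[B] C, WeilRes.restr (Spec.map (CommRingCat.ofHom (algebraMap B B')))
      ((pi B B' W).hom ≫ specOMap ξ) (specO B C) (specOMap w) =
      (pi B B' C).hom ≫ specOMap ((Algebra.TensorProduct.map (AlgHom.id B' B') w).comp ξ) := by
    intro w
    rw [WeilRes.restr_apply, specOMap_comp]
    exact ((Category.assoc _ _ _).symm.trans (congrArg (· ≫ specOMap ξ) (pi_natural B B' w))).trans (Category.assoc _ _ _)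
  refine ⟨fun g₁ g₂ hg => ?_, fun r => ?_⟩
  · obtain ⟨w₁, rfl⟩ := specOMap_surjective g₁
    obtain ⟨w₂, rfl⟩ := specOMap_surjective g₂
    rw [key, key, cancel_epi] at hg
    exact congrArg specOMap ((hξ C).1 (specOMap_injective hg))
  · obtain ⟨z, hz⟩ := specOMap_surjective ((pi B B' C).inv ≫ r)
    obtain ⟨w, hw⟩ := (hξ C).2 z
    refine ⟨specOMap w, ?_⟩
    rw [key]
    refine (congrArg (fun v => (pi B B' C).hom ≫ specOMap v) hw).trans ?_
    rw [hz, Iso.hom_inv_id_assoc]

/-- A Weil restriction over an open of the base is one over the base. -/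
theorem exists_of_open {S S' W W' : Scheme.{u}} {f : S' ⟶ S} {g : W' ⟶ W} {j : W ⟶ S} {j' : W' ⟶ S'}
    (sq : IsPullback g j' j f) [IsOpenImmersion j] [Surjective f] {Y : Over W'} {R : Over W}
    {q : Red.bc g R ⟶ Y} (h : WeilRes.IsWeilRes g Y R q) :
    ∃ q₁ : Red.bc f ((Over.map j).obj R) ⟶ (Over.map j').obj Y,
      WeilRes.IsWeilRes f ((Over.map j').obj Y) ((Over.map j).obj R) q₁ := by
  haveI : IsOpenImmersion j' := MorphismProperty.of_isPullback sq ‹_›
  let E : ∀ T : Over W, Red.bc f ((Over.map j).obj T) ≅ (Over.map j').obj (Red.bc g T) := fun T =>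
    (Over.isoMk ((IsPullback.of_hasPullback T.hom g).paste_vert sq).isoPullback (by
      show _ ≫ pullback.snd (T.hom ≫ j) f = pullback.snd T.hom g ≫ j'
      exact IsPullback.isoPullback_hom_snd _)).symm
  have hE : ∀ {T T' : Over W} (r : T ⟶ T'),
      (Over.pullback f).map ((Over.map j).map r) ≫ (E T').hom = (E T).hom ≫ (Over.map j').map ((Over.pullback g).map r) := by
    intro T T' r
    rw [← Iso.eq_comp_inv, Category.assoc, ← Iso.inv_comp_eq]
    refine Over.OverMorphism.ext (pullback.hom_ext ?_ ?_)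
    · simp [E, Over.pullback_map_left]
    · simp [E, Over.pullback_map_left]
  refine ⟨(E R).hom ≫ (Over.map j').map q, fun T => ⟨fun a b hab => ?_, fun x => ?_⟩⟩
  · have hr : Set.range T.hom ⊆ Set.range j := by
      rw [← Over.w a]
      show Set.range (a.left ≫ R.hom ≫ j) ⊆ _
      rintro _ ⟨p, rfl⟩
      exact ⟨R.hom (a.left p), rfl⟩
    let T₀ : Over W := Over.mk (IsOpenImmersion.lift j T.hom hr)
    let e : (Over.map j).obj T₀ ≅ T := Over.isoMk (Iso.refl _) (by simp [T₀])
    let low : ∀ c : T ⟶ (Over.map j).obj R, T₀ ⟶ R := fun c => Over.homMk c.left (by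
      refine (cancel_mono j).1 ?_
      rw [Category.assoc]
      show c.left ≫ R.hom ≫ j = IsOpenImmersion.lift j T.hom hr ≫ j
      rw [IsOpenImmersion.lift_fac]; exact Over.w c)
    have hlow : ∀ c, (Over.map j).map (low c) = e.hom ≫ c := fun c => Over.OverMorphism.ext (by simp [low, e])
    have hk := congrArg ((Over.pullback f).map e.hom ≫ ·) hab
    simp only [← WeilRes.restr_comp, ← hlow] at hk
    simp only [WeilRes.restr_apply, reassoc_of% hE] at hk
    rw [cancel_epi, ← Functor.map_comp, ← Functor.map_comp] at hk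
    have h2 : low a = low b := (h T₀).1 (Over.OverMorphism.ext (congrArg (fun m : _ ⟶ (Over.map j').obj Y => m.left) hk))
    rw [← cancel_epi e.hom, ← hlow, ← hlow, h2]
  · have hr : Set.range T.hom ⊆ Set.range j := by
      rintro _ ⟨p, rfl⟩
      obtain ⟨p', rfl⟩ := (MorphismProperty.pullback_fst (P := @Surjective) T.hom f ‹_›).surj p
      refine ⟨g (Y.hom (x.left p')), ?_⟩
      have h1 : pullback.fst T.hom f ≫ T.hom = (x.left ≫ Y.hom ≫ g) ≫ j := by
        rw [pullback.condition, show pullback.snd T.hom f = x.left ≫ Y.hom ≫ j' from (Over.w x).symm]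
        rw [Category.assoc, Category.assoc, ← sq.w, Category.assoc, Category.assoc]
      exact (congrArg (fun m : _ ⟶ S => m p') h1).symm
    let T₀ : Over W := Over.mk (IsOpenImmersion.lift j T.hom hr)
    let e : (Over.map j).obj T₀ ≅ T := Over.isoMk (Iso.refl _) (by simp [T₀])
    let x₁ : (Over.map j').obj (Red.bc g T₀) ⟶ (Over.map j').obj Y :=
      (E T₀).inv ≫ (Over.pullback f).map e.hom ≫ x
    let x₀ : Red.bc g T₀ ⟶ Y := Over.homMk x₁.left (by
      refine (cancel_mono j').1 ?_
      rw [Category.assoc]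
      exact Over.w x₁)
    obtain ⟨r, hr'⟩ := (h T₀).2 x₀
    refine ⟨e.inv ≫ (Over.map j).map r, ?_⟩
    rw [WeilRes.restr_comp, WeilRes.restr_apply, reassoc_of% (hE r), ← Functor.map_comp,
      show (Over.pullback g).map r ≫ q = x₀ from hr',
      show (Over.map j').map x₀ = x₁ from Over.OverMorphism.ext rfl]
    simp only [x₁, Iso.hom_inv_id_assoc, ← Functor.map_comp_assoc, Iso.inv_hom_id,
      CategoryTheory.Functor.map_id, Category.id_comp]

end Groth.Agent.WeilGlue
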